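import Groth.Agent.TopDesc98.God.Res
import Groth.Agent.TowerLib.LimHomology

/-!
# The Godement complex of a disjoint union
-/

set_option autoImplicit false
set_option linter.style.haveILetI false

universe u

open CategoryTheory CategoryTheory.Limits Opposite TopologicalSpace

namespace Groth.Agent.TopDesc98

namespace Sp

variable {S : TopCat.{u}} (Q₀ : Psh S) (T : TopCat.{u}) (a : T ⟶ S) {ι : Type u} (P : ι → Opens T)

/-- Restriction to a piece. -/
noncomputable def toPiece (j : ι) : (cxFun Q₀).obj (op ⟨T, a, ⊤⟩) ⟶ (cxFun Q₀).obj (op ⟨T, a, P j⟩) :=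
  (cxFun Q₀).map ((ofOpen T a).map (homOfLE (le_top : P j ≤ ⊤))).op

variable (hd : ∀ j j', j ≠ j' → P j ⊓ P j' ≤ ⊥) (hc : ∀ x : T, ∃ j, x ∈ P j)

include hd hc in
theorem existsUnique_pieces (q : ℤ) (s : ∀ j, ((cxFun Q₀).obj (op ⟨T, a, P j⟩)).X q) :
    ∃! t : ((cxFun Q₀).obj (op ⟨T, a, ⊤⟩)).X q, ∀ j, ((toPiece Q₀ T a P j).f q).hom t = s j := by
  let G : CohTop.Ab T := ⟨res (termZ Q₀ q) T a, termZ_isSheaf Q₀ T a q⟩
  refine TopCat.Sheaf.existsUnique_gluing' G P ⊤ (fun j => homOfLE le_top)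
    (fun x _ => Opens.mem_iSup.2 (hc x)) s fun j j' => ?_
  by_cases h : j = j'
  · subst h
    exact rfl
  · exact TopCat.Sheaf.eq_of_locally_eq' G (ι := PEmpty.{1}) (fun e => e.elim) (P j ⊓ P j') (fun e => e.elim)
      (fun x hx => ((hd j j' h) hx).elim) _ _ fun e => e.elim

include hd hc in
theorem ext_pieces (q : ℤ) (t t' : ((cxFun Q₀).obj (op ⟨T, a, ⊤⟩)).X q)
    (h : ∀ j, ((toPiece Q₀ T a P j).f q).hom t = ((toPiece Q₀ T a P j).f q).hom t') : t = t' :=
  ((existsUnique_pieces Q₀ T a P hd hc q fun j => ((toPiece Q₀ T a P j).f q).hom t')).unique h fun _ => rfl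

include hd hc in
/-- Cohomology of a disjoint union is the product. -/
theorem nonempty_homology_pieces_iso (q : ℤ) :
    Nonempty (((cxFun Q₀).obj (op ⟨T, a, ⊤⟩)).homology q ≅
      AddCommGrpCat.of (∀ j, (((cxFun Q₀).obj (op ⟨T, a, P j⟩)).homology q : AddCommGrpCat.{u}))) := by
  let C := (cxFun Q₀).obj (op ⟨T, a, ⊤⟩)
  let Φ : C.homology q →+ ∀ j, (((cxFun Q₀).obj (op ⟨T, a, P j⟩)).homology q : AddCommGrpCat.{u}) :=
    Pi.addMonoidHom fun j => (HomologicalComplex.homologyMap (toPiece Q₀ T a P j) q).hom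
  have hπ : ∀ j w, (HomologicalComplex.homologyMap (toPiece Q₀ T a P j) q).hom (C.homologyπ q w) =
      ((cxFun Q₀).obj (op ⟨T, a, P j⟩)).homologyπ q (HomologicalComplex.cyclesMap (toPiece Q₀ T a P j) q w) :=
    fun j w => ConcreteCategory.congr_hom (HomologicalComplex.homologyπ_naturality (toPiece Q₀ T a P j) q) w
  have hb : Function.Bijective Φ := by
    constructor
    · refine (injective_iff_map_eq_zero Φ).2 fun z hz => ?_
      obtain ⟨w, rfl⟩ := TowerLib.exists_cycle_rep C q z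
      have hy : ∀ j, ∃ y, ((cxFun Q₀).obj (op ⟨T, a, P j⟩)).toCycles (q - 1) q y =
          HomologicalComplex.cyclesMap (toPiece Q₀ T a P j) q w := fun j =>
        TowerLib.exists_boundary _ q _ ((hπ j w).symm.trans (congrFun hz j))
      choose y hy using hy
      obtain ⟨Y, hY, -⟩ := existsUnique_pieces Q₀ T a P hd hc (q - 1) y
      have e : C.toCycles (q - 1) q Y = w := by
        refine TowerLib.iCycles_injective C q (ext_pieces Q₀ T a P hd hc q _ _ fun j => ?_)
        refine (congrArg _ (ConcreteCategory.congr_hom (C.toCycles_i (q - 1) q) Y)).trans ?_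
        refine (ConcreteCategory.congr_hom ((toPiece Q₀ T a P j).comm (q - 1) q) Y).symm.trans ?_
        refine (congrArg _ (hY j)).trans ?_
        refine (ConcreteCategory.congr_hom (((cxFun Q₀).obj (op ⟨T, a, P j⟩)).toCycles_i (q - 1) q) (y j)).symm.trans ?_
        exact (congrArg _ (hy j)).trans (ConcreteCategory.congr_hom (HomologicalComplex.cyclesMap_i (toPiece Q₀ T a P j) q) w)
      rw [← e]
      exact TowerLib.homologyπ_toCycles C q (q - 1) Y
    · intro g
      choose w hw using fun j => TowerLib.exists_cycle_rep ((cxFun Q₀).obj (op ⟨T, a, P j⟩)) q (g j)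
      obtain ⟨t, ht, -⟩ := existsUnique_pieces Q₀ T a P hd hc q
        fun j => ((cxFun Q₀).obj (op ⟨T, a, P j⟩)).iCycles q (w j)
      have hdt : (C.d q (q + 1)).hom t = 0 := ext_pieces Q₀ T a P hd hc (q + 1) _ _ fun j => by
        refine (ConcreteCategory.congr_hom ((toPiece Q₀ T a P j).comm q (q + 1)) t).symm.trans ?_
        refine (congrArg _ (ht j)).trans ?_
        exact (ConcreteCategory.congr_hom (((cxFun Q₀).obj (op ⟨T, a, P j⟩)).iCycles_d q (q + 1)) (w j)).trans
          (map_zero ((toPiece Q₀ T a P j).f (q + 1)).hom).symm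
      obtain ⟨v, hv⟩ := TowerLib.exists_cycle C q t (q + 1) rfl hdt
      refine ⟨C.homologyπ q v, funext fun j => (hπ j v).trans ((congrArg _ ?_).trans (hw j))⟩
      refine TowerLib.iCycles_injective _ q ?_
      refine (ConcreteCategory.congr_hom (HomologicalComplex.cyclesMap_i (toPiece Q₀ T a P j) q) v).trans ?_
      exact (congrArg _ hv).trans (ht j)
  exact ⟨(AddEquiv.ofBijective Φ hb).toAddCommGrpIso⟩

end Sp

end Groth.Agent.TopDesc98
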