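import Groth.Agent.TopDesc98.God.Site
import Groth.Agent.QCoh.Ab.Godement
import Mathlib.CategoryTheory.Abelian.Exact
import Mathlib.Topology.Sheaves.Flasque

/-!
# The Godement complex, functorially in all spaces over a base
-/

set_option autoImplicit false
set_option linter.style.haveILetI false

universe u

open CategoryTheory CategoryTheory.Limits Opposite TopologicalSpace
open scoped ZeroObject

namespace Groth.Agent.TopDesc98

namespace Sp

variable {S : TopCat.{u}}

theorem gm_add (P : Psh S) (o : Sp S) (W : Opens o.T) (x : o.T) (hx : x ∈ W)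
    (s t : P.obj (op ⟨o.T, o.a, W⟩)) : gm P o W x hx (s + t) = gm P o W x hx s + gm P o W x hx t :=
  map_add _ s t

theorem stMap_ofOpen (P : Psh S) {T : TopCat.{u}} (a : T ⟶ S) {U V : Opens T} (h : U ⟶ V) (x : U)
    (z : st P ((ofOpen T a).obj V) x.1) : (stMap P ((ofOpen T a).map h) x).hom z = z := by
  obtain ⟨W, hW, s, rfl⟩ := exists_gm_eq P _ z
  refine (stMap_gm P ((ofOpen T a).map h) x W hW s).trans ?_
  have hle : W ⊓ U ≤ pre ((ofOpen T a).map h) W := fun y hy => ⟨hy.2, hy.1⟩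
  refine gm_eq P _ _ hW (show x.1 ∈ W ⊓ U from ⟨hW, x.2⟩) hle inf_le_left _ _ ?_
  exact map_map P _ _ _ (fun _ => rfl) s

/-- All families of stalk elements. -/
noncomputable def god (P : Psh S) : Psh S where
  obj o := AddCommGrpCat.of (∀ x : o.unop.U, st P o.unop x.1)
  map {o o'} f := AddCommGrpCat.ofHom (AddMonoidHom.mk'
    (fun (s : ∀ x : o.unop.U, st P o.unop x.1) (x : o'.unop.U) =>
      (stMap P f.unop x).hom (s (f.unop.g x)))
    fun s t => funext fun x => map_add _ _ _)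
  map_id o := by
    refine ConcreteCategory.hom_ext _ _ fun s => ?_
    exact funext fun x => stMap_id P x (s x)
  map_comp {o o' o''} f f' := by
    refine ConcreteCategory.hom_ext _ _ fun s => ?_
    exact funext fun x => stMap_comp P f'.unop f.unop x (s (f.unop.g (f'.unop.g x)))

theorem god_map_apply (P : Psh S) {o o' : Sp S} (f : o' ⟶ o) (s : ∀ x : o.U, st P o x.1) (x : o'.U) :
    (((god P).map f.op).hom s : ∀ x : o'.U, st P o' x.1) x = (stMap P f x).hom (s (f.g x)) := rfl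

/-- The germs of a section. -/
noncomputable def unit (P : Psh S) : P ⟶ god P where
  app o := AddCommGrpCat.ofHom (AddMonoidHom.mk'
    (fun s (x : o.unop.U) => gm P o.unop o.unop.U x.1 x.2 s)
    fun s t => funext fun x => gm_add P _ _ _ _ s t)
  naturality o o' f := by
    refine ConcreteCategory.hom_ext _ _ fun s => funext fun (x : o'.unop.U) => ?_
    refine Eq.trans ?_ (stMap_gm P f.unop x o.unop.U (f.unop.g x).2 s).symm
    have hle : o'.unop.U ≤ pre f.unop o.unop.U := fun y hy => ⟨hy, (f.unop.g ⟨y, hy⟩).2⟩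
    refine gm_eq P o'.unop x.2 _ x.2 le_rfl hle _ _ ?_
    exact (map_map P f.unop _ f.unop (fun _ => rfl) s).trans (map_map P _ _ f.unop (fun _ => rfl) s).symm

variable (T : TopCat.{u}) (a : T ⟶ S)

/-- The families on the opens of one space are the pointwise presheaf. -/
noncomputable def godResIso (P : Psh S) :
    res (god P) T a ≅ QCoh.Ab.pointwise (fun x : T => TopCat.Presheaf.stalk (C := AddCommGrpCat.{u}) (X := T) (res P T a) x) :=
  NatIso.ofComponents (fun U => Iso.refl _) fun {U V} i => by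
    refine ConcreteCategory.hom_ext _ _ fun (s : ∀ x : U.unop, TopCat.Presheaf.stalk (C := AddCommGrpCat.{u}) (X := T) (res P T a) x.1) =>
      funext fun x => ?_
    exact stMap_ofOpen P a i.unop x (s ⟨x.1, i.unop.le x.2⟩)

theorem god_isSheaf (P : Psh S) : TopCat.Presheaf.IsSheaf (res (god P) T a) :=
  TopCat.Presheaf.isSheaf_of_iso (godResIso T a P).symm (QCoh.Ab.pointwise_isSheaf _)

/-- The families as a sheaf on one space. -/
noncomputable def godSheaf (P : Psh S) : CohTop.Ab T := ⟨res (god P) T a, god_isSheaf T a P⟩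

theorem god_restrict_surjective (P : Psh S) {U V : Opens T} (h : V ≤ U) :
    Function.Surjective ((god P).map ((ofOpen T a).map (homOfLE h)).op).hom := by
  classical
  intro (s : ∀ x : V, TopCat.Presheaf.stalk (C := AddCommGrpCat.{u}) (X := T) (res P T a) x.1)
  refine ⟨fun (x : U) => if hx : x.1 ∈ V then s ⟨x.1, hx⟩ else 0, funext fun (x : V) => ?_⟩
  exact (stMap_ofOpen P a (homOfLE h) x _).trans (dif_pos x.2)

instance isFlasque_godSheaf (P : Psh S) : TopCat.Sheaf.IsFlasque (godSheaf T a P) where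
  epi {U V} i := (AddCommGrpCat.epi_iff_surjective _).2 (god_restrict_surjective T a P i.unop.le)

variable (Q₀ : Psh S)

/-- The successive cokernels. -/
noncomputable def coker : ℕ → Psh S
  | 0 => Q₀
  | n + 1 => cokernel (unit (coker n))

/-- The terms of the Godement complex. -/
noncomputable abbrev term (n : ℕ) : Psh S := god (coker Q₀ n)

/-- The differentials of the Godement complex. -/
noncomputable def diff (n : ℕ) : term Q₀ n ⟶ term Q₀ (n + 1) :=
  cokernel.π (unit (coker Q₀ n)) ≫ unit (coker Q₀ (n + 1))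

theorem unit_diff (n : ℕ) : unit (coker Q₀ n) ≫ diff Q₀ n = 0 := by
  exact (Category.assoc _ _ _).symm.trans ((congrArg (· ≫ unit (coker Q₀ (n + 1))) (cokernel.condition _)).trans zero_comp)

theorem diff_diff (n : ℕ) : diff Q₀ n ≫ diff Q₀ (n + 1) = 0 := by
  exact (Category.assoc _ _ _).trans ((congrArg (cokernel.π (unit (coker Q₀ n)) ≫ ·) (unit_diff Q₀ (n + 1))).trans
    comp_zero)

theorem π_surjective (n : ℕ) (o : Sp S) :
    Function.Surjective ((cokernel.π (unit (coker Q₀ n))).app (op o)).hom := by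
  haveI : Epi ((cokernel.π (unit (coker Q₀ n))).app (op o)) :=
    ((evaluation (Sp S)ᵒᵖ AddCommGrpCat.{u}).obj (op o)).map_epi _
  exact (AddCommGrpCat.epi_iff_surjective _).1 this

theorem π_eq_zero (n : ℕ) (o : Sp S) (s : (term Q₀ n).obj (op o))
    (hs : ((cokernel.π (unit (coker Q₀ n))).app (op o)).hom s = 0) :
    ∃ t, ((unit (coker Q₀ n)).app (op o)).hom t = s :=
  (ShortComplex.ab_exact_iff _).1
    ((ShortComplex.exact_cokernel (unit (coker Q₀ n))).map ((evaluation (Sp S)ᵒᵖ AddCommGrpCat.{u}).obj (op o))) s hs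

theorem unit_eq_zero (P : Psh S) (o : Sp S) (s : P.obj (op o)) (hs : ((unit P).app (op o)).hom s = 0)
    (x : o.T) (hx : x ∈ o.U) :
    ∃ (V : Opens o.T) (h : V ≤ o.U), x ∈ V ∧ (P.map ((ofOpen o.T o.a).map (homOfLE h)).op).hom s = 0 := by
  have h0 : gm P o o.U x hx s = gm P o o.U x hx 0 := (congrFun hs ⟨x, hx⟩).trans (map_zero _).symm
  obtain ⟨V, hV, i₁, i₂, e⟩ := TopCat.Presheaf.germ_eq (res P o.T o.a) x hx hx s 0 h0
  exact ⟨V, i₁.le, hV, e.trans (map_zero ((res P o.T o.a).map i₂.op).hom)⟩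

theorem diff_exact (n : ℕ) (o : Sp S) (s : (term Q₀ (n + 1)).obj (op o))
    (hs : ((diff Q₀ (n + 1)).app (op o)).hom s = 0) (x : o.T) (hx : x ∈ o.U) :
    ∃ (V : Opens o.T) (h : V ≤ o.U), x ∈ V ∧ ∃ t : (term Q₀ n).obj (op ⟨o.T, o.a, V⟩),
      ((diff Q₀ n).app (op ⟨o.T, o.a, V⟩)).hom t =
        ((term Q₀ (n + 1)).map ((ofOpen o.T o.a).map (homOfLE h)).op).hom s := by
  obtain ⟨V, h, hxV, e⟩ := unit_eq_zero _ o (((cokernel.π (unit (coker Q₀ (n + 1)))).app (op o)).hom s) hs x hx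
  obtain ⟨v, hv⟩ := π_eq_zero Q₀ (n + 1) ⟨o.T, o.a, V⟩
    (((term Q₀ (n + 1)).map ((ofOpen o.T o.a).map (homOfLE h)).op).hom s)
    ((ConcreteCategory.congr_hom
      ((cokernel.π (unit (coker Q₀ (n + 1)))).naturality ((ofOpen o.T o.a).map (homOfLE h)).op) s).trans e)
  obtain ⟨t, rfl⟩ := π_surjective Q₀ n _ v
  exact ⟨V, h, hxV, t, hv⟩

theorem diff_exact_zero (o : Sp S) (s : (term Q₀ 0).obj (op o))
    (hs : ((diff Q₀ 0).app (op o)).hom s = 0) (x : o.T) (hx : x ∈ o.U) :
    ∃ (V : Opens o.T) (h : V ≤ o.U), x ∈ V ∧ ∃ t : Q₀.obj (op ⟨o.T, o.a, V⟩),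
      ((unit Q₀).app (op ⟨o.T, o.a, V⟩)).hom t =
        ((term Q₀ 0).map ((ofOpen o.T o.a).map (homOfLE h)).op).hom s := by
  obtain ⟨V, h, hxV, e⟩ := unit_eq_zero _ o (((cokernel.π (unit (coker Q₀ 0))).app (op o)).hom s) hs x hx
  exact ⟨V, h, hxV, π_eq_zero Q₀ 0 ⟨o.T, o.a, V⟩
    (((term Q₀ 0).map ((ofOpen o.T o.a).map (homOfLE h)).op).hom s)
    ((ConcreteCategory.congr_hom
      ((cokernel.π (unit (coker Q₀ 0))).naturality ((ofOpen o.T o.a).map (homOfLE h)).op) s).trans e)⟩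

/-- The terms, extended by zero to negative degrees. -/
noncomputable def termZ : ℤ → Psh S
  | Int.ofNat n => term Q₀ n
  | Int.negSucc _ => 0

/-- The differentials in all degrees. -/
noncomputable def diffZ : ∀ q : ℤ, termZ Q₀ q ⟶ termZ Q₀ (q + 1)
  | Int.ofNat n => diff Q₀ n
  | Int.negSucc _ => 0

theorem diffZ_diffZ : ∀ q : ℤ, diffZ Q₀ q ≫ diffZ Q₀ (q + 1) = 0
  | Int.ofNat n => diff_diff Q₀ n
  | Int.negSucc _ => zero_comp

/-- The Godement complex of presheaves. -/
noncomputable def cx : CochainComplex (Psh S) ℤ :=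
  CochainComplex.of (termZ Q₀) (diffZ Q₀) (diffZ_diffZ Q₀)

theorem cx_d (n : ℕ) : (cx Q₀).d (n : ℤ) ((n : ℤ) + 1) = diff Q₀ n := by
  dsimp [cx]
  exact CochainComplex.of_d _ _ _

theorem isZero_cx_X (q : ℤ) (hq : q < 0) : IsZero ((cx Q₀).X q) := by
  obtain ⟨n, rfl⟩ : ∃ n, q = Int.negSucc n := ⟨(-q - 1).toNat, by omega⟩
  exact isZero_zero _

/-- The Godement complex, as a functor on opens of spaces over `S`. -/
noncomputable def cxFun : (Sp S)ᵒᵖ ⥤ CochainComplex AddCommGrpCat.{u} ℤ where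
  obj o := (((evaluation (Sp S)ᵒᵖ AddCommGrpCat.{u}).obj o).mapHomologicalComplex _).obj (cx Q₀)
  map {o o'} f :=
    { f := fun q => ((cx Q₀).X q).map f
      comm' := fun i j _ => (((cx Q₀).d i j).naturality f) }
  map_id o := by
    ext1 q
    exact ((cx Q₀).X q).map_id o
  map_comp f f' := by
    ext1 q
    exact ((cx Q₀).X q).map_comp f f'

end Sp

end Groth.Agent.TopDesc98
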