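import Groth.Agent.TopDesc98.God.Restrict
import Groth.Agent.TopDesc98.Acyc.Cocycle

/-!
# Cocycles near a compact separated subspace
-/

set_option autoImplicit false
set_option linter.style.haveILetI false

universe u

open CategoryTheory CategoryTheory.Limits Opposite TopologicalSpace Topology

namespace Groth.Agent.TopDesc98

namespace Sp

open CTopNbd

variable {S T T' : TopCat.{u}} (i : T' ⟶ T) (a : T ⟶ S) (a' : T' ⟶ S) (h : i ≫ a = a')

/-- The map from a subspace to a neighbourhood of it. -/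
def toNbd (W : Opens T) (hW : ∀ x, i x ∈ W) : (⟨T', a', ⊤⟩ : Sp S) ⟶ ⟨T, a, W⟩ :=
  (ofOpen T' a').map (homOfLE (show (⊤ : Opens T') ≤ (Opens.map i).obj W from fun x _ => hW x)) ≫ pullHom i a a' h W

variable (Q₀ : Psh S)

/-- Restriction of cochains to the subspace. -/
noncomputable def ρ (W : Opens T) (hW : ∀ x, i x ∈ W) (q : ℤ) :
    ((cxFun Q₀).obj (op ⟨T, a, W⟩)).X q →+ ((cxFun Q₀).obj (op ⟨T', a', ⊤⟩)).X q :=
  (((cxFun Q₀).map (toNbd i a a' h W hW).op).f q).hom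

/-- Sections of the inverse image on the whole subspace. -/
noncomputable def η (W : Opens T) (hW : ∀ x, i x ∈ W) (q : ℤ) :
    ((godCx Q₀ T a).X q).obj.obj (op W) →+ (((CohTop.pull i).obj ((godCx Q₀ T a).X q)).obj.obj (op (⊤ : Opens T'))) :=
  (rs ((CohTop.pull i).obj ((godCx Q₀ T a).X q)) (show (⊤ : Opens T') ≤ (Opens.map i).obj W from fun x _ => hW x)).comp
    (sa ((TopCat.Sheaf.pullbackPushforwardAdjunction AddCommGrpCat.{u} i).unit.app ((godCx Q₀ T a).X q)) W)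

theorem η_d (W : Opens T) (hW : ∀ x, i x ∈ W) (p q : ℤ) (c : ((godCx Q₀ T a).X p).obj.obj (op W)) :
    sa ((CohTop.pull i).map ((godCx Q₀ T a).d p q)) ⊤ (η i a Q₀ W hW p c) =
      η i a Q₀ W hW q (sa ((godCx Q₀ T a).d p q) W c) := by
  refine (sa_rs ((CohTop.pull i).map ((godCx Q₀ T a).d p q)) _ _).trans (congrArg _ ?_)
  exact (ConcreteCategory.congr_hom (congrArg
    (fun t : (godCx Q₀ T a).X p ⟶ (CohTop.push i).obj ((CohTop.pull i).obj ((godCx Q₀ T a).X q)) => t.hom.app (op W))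
    ((TopCat.Sheaf.pullbackPushforwardAdjunction AddCommGrpCat.{u} i).unit.naturality ((godCx Q₀ T a).d p q))) c).symm

theorem godMap_η (W : Opens T) (hW : ∀ x, i x ∈ W) (q : ℤ) (c : ((godCx Q₀ T a).X q).obj.obj (op W)) :
    sa ((godMap i a a' h Q₀).f q) ⊤ (η i a Q₀ W hW q c) = ρ i a a' h Q₀ W hW q c := by
  refine (sa_rs ((godMap i a a' h Q₀).f q) _ _).trans ?_
  have e := ConcreteCategory.congr_hom (congrArg
    (fun t : (godCx Q₀ T a).X q ⟶ (CohTop.push i).obj ((godCx Q₀ T' a').X q) => t.hom.app (op W))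
    (unit_pMap i a a' h ((cx Q₀).X q) (termZ_isSheaf Q₀ T a q) (termZ_isSheaf Q₀ T' a' q))) c
  refine (congrArg _ e).trans ?_
  exact map_map ((cx Q₀).X q) (pullHom i a a' h W) _ (toNbd i a a' h W hW) (fun _ => rfl) c

variable (hi : IsInducing i) [CompactSpace T'] (hd : ∀ x y, x ≠ y → Disjoint (𝓝 (i x)) (𝓝 (i y)))

include hi hd in
theorem exists_η_eq (q : ℤ) (t : ((CohTop.pull i).obj ((godCx Q₀ T a).X q)).obj.obj (op (⊤ : Opens T'))) :
    ∃ (W : Opens T) (hW : ∀ x, i x ∈ W) (c : ((godCx Q₀ T a).X q).obj.obj (op W)), η i a Q₀ W hW q c = t := by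
  let adj : CohTop.pull i ⊣ CohTop.push i := TopCat.Sheaf.pullbackPushforwardAdjunction AddCommGrpCat.{u} i
  obtain ⟨U₁, hU₁, hAU, f, hf⟩ := lift_near (ctx_compact hi hd) (adj.unit.app ((godCx Q₀ T a).X q))
    (locSurj_unit hi adj _) ((locInj_unit hi adj _).kerExt _) isClosed_univ (U₀ := ⊤) (fun _ _ => trivial) t
  refine ⟨U₁, fun x => hAU (Set.mem_univ x), f, ?_⟩
  refine (congrArg _ hf).trans ?_
  exact (rs_rs ((CohTop.pull i).obj _) _ _ t).trans (rs_self _ _ t)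

include hi in
theorem exists_res_eq_zero (W : Opens T) (hW : ∀ x, i x ∈ W) (q : ℤ) (c : ((godCx Q₀ T a).X q).obj.obj (op W))
    (hc : η i a Q₀ W hW q c = 0) :
    ∃ (W' : Opens T) (hle : W' ≤ W), (∀ x, i x ∈ W') ∧ rs ((godCx Q₀ T a).X q) hle c = 0 := by
  let adj : CohTop.pull i ⊣ CohTop.push i := TopCat.Sheaf.pullbackPushforwardAdjunction AddCommGrpCat.{u} i
  let G : CohTop.Ab T' := (CohTop.pull i).obj ((godCx Q₀ T a).X q)
  have h0 : sa (adj.unit.app ((godCx Q₀ T a).X q)) W c = 0 := by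
    have e := congrArg (rs G (show (Opens.map i).obj W ≤ (⊤ : Opens T') from le_top)) hc
    exact ((rs_rs G _ _ _).trans (rs_self G _ _)).symm.trans (e.trans (map_zero _))
  obtain ⟨E, hE, hmem, hz⟩ := (locInj_unit hi adj _).zero_near c h0
  exact ⟨E, hE, fun x => hmem x (hW x), hz⟩

include hi hd in
theorem quasiIso_gamma_godMap (hT : TopCat.Presheaf.IsSheaf (res Q₀ T a))
    (hT' : TopCat.Presheaf.IsSheaf (res Q₀ T' a')) (hiso : IsIso (pMap i a a' h Q₀ hT hT')) :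
    QuasiIso (((gamma T').mapHomologicalComplex (ComplexShape.up ℤ)).map (godMap i a a' h Q₀)) := by
  haveI := quasiIso_godMap i a a' h Q₀ hT hT' hiso
  haveI : PreservesFiniteLimits (gamma T') := comp_preservesFiniteLimits _ _
  haveI : CochainComplex.IsStrictlyGE (((CohTop.pull i).mapHomologicalComplex (ComplexShape.up ℤ)).obj (godCx Q₀ T a)) 0 := by
    rw [CochainComplex.isStrictlyGE_iff]
    exact fun q hq => (CohTop.pull i).map_isZero ((godCx Q₀ T a).isZero_of_isStrictlyGE 0 q hq)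
  refine quasiIso_map_of_acyclic (gamma T') (godMap i a a' h Q₀) 0 (fun q => ?_) (fun q => ?_)
  · by_cases hq : 0 ≤ q
    · haveI := isFlasque_godCx Q₀ T a q hq
      haveI := t2Space_of_sep hi hd
      intro k hk
      obtain ⟨n, rfl⟩ := Nat.exists_eq_succ_of_ne_zero hk.ne'
      refine IsZero.of_iso ?_ ((rightDerivedGammaIso T' (n + 1)).app _)
      exact @AddCommGrpCat.isZero_of_subsingleton _ ((CTopVan.subsingleton_H_iff _ _).1
        (subsingleton_H_of_soft (ctx_compact_id (X := T')) isClosed_univ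
          (soft_of_adj hi (ctx_compact hi hd)
            (TopCat.Sheaf.pullbackPushforwardAdjunction AddCommGrpCat.{u} i) ((godCx Q₀ T a).X q)) n))
    · exact fun k _ => Functor.map_isZero _
        ((CohTop.pull i).map_isZero ((godCx Q₀ T a).isZero_of_isStrictlyGE 0 q (by omega)))
  · by_cases hq : 0 ≤ q
    · haveI := isFlasque_godCx Q₀ T' a' q hq
      exact isRightAcyclic_of_isFlasque _
    · exact fun k _ => Functor.map_isZero _ ((godCx Q₀ T' a').isZero_of_isStrictlyGE 0 q (by omega))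

include hi hd in
/-- A cocycle on the subspace comes from a cocycle near it, up to a coboundary. -/
theorem exists_cocycle_near (hT : TopCat.Presheaf.IsSheaf (res Q₀ T a))
    (hT' : TopCat.Presheaf.IsSheaf (res Q₀ T' a')) (hiso : IsIso (pMap i a a' h Q₀ hT hT'))
    (q₀ q q₁ : ℤ) (h₀ : q₀ + 1 = q) (h₁ : q + 1 = q₁) (b : ((cxFun Q₀).obj (op ⟨T', a', ⊤⟩)).X q)
    (hb : (((cxFun Q₀).obj (op ⟨T', a', ⊤⟩)).d q q₁).hom b = 0) :
    ∃ (W : Opens T) (hW : ∀ x, i x ∈ W) (e : ((cxFun Q₀).obj (op ⟨T, a, W⟩)).X q),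
      (((cxFun Q₀).obj (op ⟨T, a, W⟩)).d q q₁).hom e = 0 ∧
        ∃ b' : ((cxFun Q₀).obj (op ⟨T', a', ⊤⟩)).X q₀,
          b = ρ i a a' h Q₀ W hW q e + (((cxFun Q₀).obj (op ⟨T', a', ⊤⟩)).d q₀ q).hom b' := by
  haveI := quasiIso_gamma_godMap i a a' h Q₀ hi hd hT hT' hiso
  obtain ⟨t, ht, b', hb'⟩ := exists_lift_of_quasiIso
    (((gamma T').mapHomologicalComplex (ComplexShape.up ℤ)).map (godMap i a a' h Q₀)) q₀ q q₁ h₀ h₁ b hb
  obtain ⟨W, hW, e, rfl⟩ := exists_η_eq i a Q₀ hi hd q t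
  obtain ⟨W', hle, hW', he⟩ := exists_res_eq_zero i a Q₀ hi W hW q₁ _ ((η_d i a Q₀ W hW q q₁ e).symm.trans ht)
  refine ⟨W', hW', rs ((godCx Q₀ T a).X q) hle e, (sa_rs ((godCx Q₀ T a).d q q₁) hle e).trans he, b', ?_⟩
  refine hb'.trans (congrArg₂ (· + ·) ?_ rfl)
  refine (godMap_η i a a' h Q₀ W hW q e).trans ?_
  exact (map_map ((cx Q₀).X q) ((ofOpen T a).map (homOfLE hle)) _ (toNbd i a a' h W hW) (fun _ => rfl) e).symm

include hi hd in
/-- A cocycle near the subspace which bounds on it bounds near it. -/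
theorem exists_bound_near (hT : TopCat.Presheaf.IsSheaf (res Q₀ T a))
    (hT' : TopCat.Presheaf.IsSheaf (res Q₀ T' a')) (hiso : IsIso (pMap i a a' h Q₀ hT hT'))
    (q₀ q q₁ : ℤ) (h₀ : q₀ + 1 = q) (h₁ : q + 1 = q₁) (W : Opens T) (hW : ∀ x, i x ∈ W)
    (c : ((cxFun Q₀).obj (op ⟨T, a, W⟩)).X q) (hc : (((cxFun Q₀).obj (op ⟨T, a, W⟩)).d q q₁).hom c = 0)
    (b : ((cxFun Q₀).obj (op ⟨T', a', ⊤⟩)).X q₀)
    (hb : ρ i a a' h Q₀ W hW q c = (((cxFun Q₀).obj (op ⟨T', a', ⊤⟩)).d q₀ q).hom b) :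
    ∃ (W' : Opens T) (hle : W' ≤ W), (∀ x, i x ∈ W') ∧ ∃ w : ((cxFun Q₀).obj (op ⟨T, a, W'⟩)).X q₀,
      (((cxFun Q₀).obj (op ⟨T, a, W'⟩)).d q₀ q).hom w =
        (((cxFun Q₀).map ((ofOpen T a).map (homOfLE hle)).op).f q).hom c := by
  haveI := quasiIso_gamma_godMap i a a' h Q₀ hi hd hT hT' hiso
  obtain ⟨t, ht⟩ := exists_bound_of_quasiIso
    (((gamma T').mapHomologicalComplex (ComplexShape.up ℤ)).map (godMap i a a' h Q₀)) q₀ q q₁ h₀ h₁
    (η i a Q₀ W hW q c) ((η_d i a Q₀ W hW q q₁ c).trans ((congrArg _ hc).trans (map_zero _))) b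
    ((godMap_η i a a' h Q₀ W hW q c).trans hb)
  obtain ⟨W₁, hW₁, w, rfl⟩ := exists_η_eq i a Q₀ hi hd q₀ t
  let Gq := (godCx Q₀ T a).X q
  let W₂ : Opens T := W₁ ⊓ W
  have hW₂ : ∀ x, i x ∈ W₂ := fun x => ⟨hW₁ x, hW x⟩
  have hηres : ∀ (U V : Opens T) (hV : ∀ x, i x ∈ V) (hU : ∀ x, i x ∈ U) (hVU : V ≤ U) (z : Gq.obj.obj (op U)),
      η i a Q₀ V hV q (rs Gq hVU z) = η i a Q₀ U hU q z := fun U V hV hU hVU z =>
    (congrArg _ (sa_rs ((TopCat.Sheaf.pullbackPushforwardAdjunction AddCommGrpCat.{u} i).unit.app Gq) hVU z)).trans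
      (rs_rs ((CohTop.pull i).obj Gq) _ _ _)
  have e0 : η i a Q₀ W₂ hW₂ q (rs Gq (inf_le_left : W₂ ≤ W₁) (sa ((godCx Q₀ T a).d q₀ q) W₁ w) -
      rs Gq (inf_le_right : W₂ ≤ W) c) = 0 := by
    rw [map_sub, hηres W₁ W₂ hW₂ hW₁, hηres W W₂ hW₂ hW, sub_eq_zero]
    exact (η_d i a Q₀ W₁ hW₁ q₀ q w).symm.trans ht
  obtain ⟨W', hle, hW', he⟩ := exists_res_eq_zero i a Q₀ hi W₂ hW₂ q _ e0
  refine ⟨W', hle.trans inf_le_right, hW', rs ((godCx Q₀ T a).X q₀) (hle.trans inf_le_left) w, ?_⟩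
  rw [map_sub, rs_rs, rs_rs, sub_eq_zero] at he
  exact (sa_rs ((godCx Q₀ T a).d q₀ q) _ w).trans he

end Sp

end Groth.Agent.TopDesc98
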