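import Groth.Agent.TopDesc98.God.Site
import Groth.Agent.CTopVan.Spectral

/-!
# The inverse image of a sheaf, functorially in all spaces over a base
-/

set_option autoImplicit false

universe u

open CategoryTheory CategoryTheory.Limits Opposite TopologicalSpace

namespace Groth.Agent.TopDesc98

namespace Sp

variable {S : TopCat.{u}} (F : CohTop.Ab S)

/-- Transport of stalk elements along an equality of points. -/
noncomputable def tr {b c : S} (h : b = c) : CohTop.stalk F b →+ CohTop.stalk F c :=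
  h ▸ AddMonoidHom.id _

theorem tr_tr {b c e : S} (h : b = c) (h' : c = e) (z : CohTop.stalk F b) :
    tr F h' (tr F h z) = tr F (h.trans h') z := by subst h; subst h'; rfl

theorem tr_self {b : S} (h : b = b) (z : CohTop.stalk F b) : tr F h z = z := rfl

/-- The germ of a section of the sheaf. -/
noncomputable abbrev gF (V : Opens S) (s : S) (hs : s ∈ V) (t : F.obj.obj (op V)) : CohTop.stalk F s :=
  (TopCat.Presheaf.germ (C := AddCommGrpCat.{u}) (X := S) F.obj V s hs).hom t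

theorem tr_gF {b c : S} (h : b = c) (V : Opens S) (hb : b ∈ V) (t : F.obj.obj (op V)) :
    tr F h (gF F V b hb t) = gF F V c (h ▸ hb) t := by subst h; rfl

theorem gF_res {V V' : Opens S} (h : V' ≤ V) {s : S} (hs : s ∈ V') (t : F.obj.obj (op V)) :
    gF F V' s hs ((F.obj.map (homOfLE h).op).hom t) = gF F V s (h hs) t :=
  TopCat.Presheaf.germ_res_apply F.obj (homOfLE h) s hs t

/-- A family of stalk elements is, near a point, given by a section. -/
def IsGermAt (o : Sp S) (s : ∀ x : o.U, CohTop.stalk F (o.a x.1)) (x : o.U) : Prop :=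
  ∃ (W : Opens o.T) (V : Opens S) (t : F.obj.obj (op V)), x.1 ∈ W ∧
    ∀ y : o.U, y.1 ∈ W → ∃ hV : o.a y.1 ∈ V, s y = gF F V (o.a y.1) hV t

/-- Families of stalk elements, locally given by sections. -/
noncomputable def p0Grp (o : Sp S) : AddSubgroup (∀ x : o.U, CohTop.stalk F (o.a x.1)) where
  carrier := {s | ∀ x, IsGermAt F o s x}
  add_mem' {s s'} hs hs' x := by
    obtain ⟨W, V, t, hxW, ht⟩ := hs x
    obtain ⟨W', V', t', hxW', ht'⟩ := hs' x
    refine ⟨W ⊓ W', V ⊓ V', (F.obj.map (homOfLE (inf_le_left : V ⊓ V' ≤ V)).op).hom t +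
      (F.obj.map (homOfLE (inf_le_right : V ⊓ V' ≤ V')).op).hom t', ⟨hxW, hxW'⟩, fun y hy => ?_⟩
    obtain ⟨hV, e⟩ := ht y hy.1
    obtain ⟨hV', e'⟩ := ht' y hy.2
    refine ⟨⟨hV, hV'⟩, ?_⟩
    exact ((congrArg₂ (· + ·) (e.trans (gF_res F inf_le_left ⟨hV, hV'⟩ t).symm)
      (e'.trans (gF_res F inf_le_right ⟨hV, hV'⟩ t').symm))).trans (map_add _ _ _).symm
  zero_mem' x := ⟨⊤, ⊤, 0, trivial, fun y _ => ⟨trivial, (map_zero _).symm⟩⟩
  neg_mem' {s} hs x := by
    obtain ⟨W, V, t, hxW, ht⟩ := hs x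
    refine ⟨W, V, -t, hxW, fun y hy => ?_⟩
    obtain ⟨hV, e⟩ := ht y hy
    exact ⟨hV, (congrArg Neg.neg e).trans (map_neg _ _).symm⟩

theorem reindex_mem {o o' : Sp S} (f : o' ⟶ o) {s : ∀ x : o.U, CohTop.stalk F (o.a x.1)} (hs : s ∈ p0Grp F o) :
    (fun x : o'.U => tr F (f.comm x) (s (f.g x))) ∈ p0Grp F o' := by
  intro x
  obtain ⟨W, V, t, hxW, ht⟩ := hs (f.g x)
  refine ⟨pre f W, V, t, ⟨x.2, hxW⟩, fun y hy => ?_⟩
  obtain ⟨hV, e⟩ := ht (f.g y) hy.snd
  exact ⟨f.comm y ▸ hV, (congrArg _ e).trans (tr_gF F (f.comm y) V hV t)⟩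

/-- The inverse images of a sheaf. -/
noncomputable def p0 : Psh S where
  obj o := AddCommGrpCat.of (p0Grp F o.unop)
  map {o o'} f := AddCommGrpCat.ofHom (AddMonoidHom.mk'
    (fun s => (⟨fun x => tr F (f.unop.comm x) (s.1 (f.unop.g x)), reindex_mem F f.unop s.2⟩ : p0Grp F o'.unop))
    fun s t => Subtype.ext (funext fun x => map_add _ _ _))
  map_id o := by
    refine ConcreteCategory.hom_ext _ _ fun s => ?_
    exact Subtype.ext (funext fun x => rfl)
  map_comp f f' := by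
    refine ConcreteCategory.hom_ext _ _ fun s => ?_
    refine Subtype.ext (funext fun x => ?_)
    exact (tr_tr F (f.unop.comm (f'.unop.g x)) (f'.unop.comm x) _).symm

variable (T : TopCat.{u}) (a : T ⟶ S)

theorem p0_isSheaf : TopCat.Presheaf.IsSheaf (res (p0 F) T a) := by
  refine (TopCat.Presheaf.isSheaf_iff_isSheafUniqueGluing _).2 fun ι U sf hsf => ?_
  have hmem : ∀ x : ↥(iSup U), ∃ i, x.1 ∈ U i := fun x => Opens.mem_iSup.1 x.2
  choose k hk using hmem
  have hcompat : ∀ (i j : ι) (x : T) (hi : x ∈ U i) (hj : x ∈ U j),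
      (sf i).1 ⟨x, hi⟩ = (sf j).1 ⟨x, hj⟩ := fun i j x hi hj =>
    congrFun (congrArg Subtype.val (hsf i j)) ⟨x, hi, hj⟩
  refine ⟨⟨fun x => (sf (k x)).1 ⟨x.1, hk x⟩, fun x => ?_⟩, fun i => ?_, fun s hs => ?_⟩
  · obtain ⟨W, V, t, hxW, ht⟩ := (sf (k x)).2 ⟨x.1, hk x⟩
    refine ⟨W ⊓ U (k x), V, t, ⟨hxW, hk x⟩, fun y hy => ?_⟩
    obtain ⟨hV, e⟩ := ht ⟨y.1, hy.2⟩ hy.1
    exact ⟨hV, (hcompat (k y) (k x) y.1 (hk y) hy.2).trans e⟩
  · exact Subtype.ext (funext fun x => hcompat _ i x.1 (hk _) x.2)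
  · exact Subtype.ext (funext fun x =>
      (congrFun (congrArg Subtype.val (hs (k x))) ⟨x.1, hk x⟩))

/-- The inverse image as a sheaf on one space. -/
noncomputable def p0Sheaf : CohTop.Ab T := ⟨res (p0 F) T a, p0_isSheaf F T a⟩

/-- The germs of a section, pulled back. -/
noncomputable def p0Unit : F ⟶ (CohTop.push a).obj (p0Sheaf F T a) :=
  ⟨{ app := fun V => AddCommGrpCat.ofHom (AddMonoidHom.mk'
        (fun t => (⟨fun x => gF F V.unop (a x.1) x.2 t, fun x => ⟨(Opens.map a).obj V.unop, V.unop, t, x.2,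
          fun y _ => ⟨y.2, rfl⟩⟩⟩ : p0Grp F ⟨T, a, (Opens.map a).obj V.unop⟩))
        fun t t' => Subtype.ext (funext fun x => map_add _ _ _))
     naturality := fun V V' h => by
      refine ConcreteCategory.hom_ext _ _ fun t => ?_
      exact Subtype.ext (funext fun x => gF_res F h.unop.le x.2 t) }⟩

/-- The comparison with the inverse image. -/
noncomputable def p0Map : (CohTop.pull a).obj F ⟶ p0Sheaf F T a :=
  ((TopCat.Sheaf.pullbackPushforwardAdjunction AddCommGrpCat.{u} a).homEquiv F (p0Sheaf F T a)).symm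
    (p0Unit F T a)

theorem isIso_p0Map : IsIso (p0Map F T a) := by
  let adj : CohTop.pull a ⊣ CohTop.push a := TopCat.Sheaf.pullbackPushforwardAdjunction AddCommGrpCat.{u} a
  let G : CohTop.Ab T := (CohTop.pull a).obj F
  have hunit : adj.unit.app F ≫ (CohTop.push a).map (p0Map F T a) = p0Unit F T a :=
    (adj.homEquiv_unit F (p0Sheaf F T a) _).symm.trans ((adj.homEquiv F (p0Sheaf F T a)).apply_symm_apply _)
  have hstalk : ∀ x : T, IsIso ((TopCat.Presheaf.stalkFunctor AddCommGrpCat.{u} x).map (p0Map F T a).1) := by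
    intro x
    let w := (ClosedEmb.stalkF (a x)).map (adj.unit.app F) ≫
      TopCat.Presheaf.stalkPushforward AddCommGrpCat.{u} a G.obj x
    have hw : Function.Surjective w.hom := (AddCommGrpCat.epi_iff_surjective w).1
      (CTopVan.epi_stalkUnit_pushforward a F x)
    have key : ∀ (V : Opens S) (hV : a x ∈ V) (t : F.obj.obj (op V)),
        ((TopCat.Presheaf.stalkFunctor AddCommGrpCat.{u} x).map (p0Map F T a).1).hom (w.hom (gF F V (a x) hV t)) =
          gm (p0 F) ⟨T, a, ⊤⟩ ((Opens.map a).obj V) x hV (((p0Unit F T a).hom.app (op V)).hom t) := by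
      intro V hV t
      have e₁ : w.hom (gF F V (a x) hV t) =
          TopCat.Presheaf.germ (C := AddCommGrpCat.{u}) (X := T) G.obj ((Opens.map a).obj V) x hV
            (((adj.unit.app F).hom.app (op V)).hom t) :=
        (congrArg (fun z => (TopCat.Presheaf.stalkPushforward AddCommGrpCat.{u} a G.obj x).hom z)
          (TopCat.Presheaf.stalkFunctor_map_germ_apply V (a x) hV (adj.unit.app F).hom t)).trans
          (ConcreteCategory.congr_hom (TopCat.Presheaf.stalkPushforward_germ AddCommGrpCat.{u} a G.obj V x hV) _)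
      rw [e₁]
      refine (TopCat.Presheaf.stalkFunctor_map_germ_apply ((Opens.map a).obj V) x hV (p0Map F T a).1 _).trans ?_
      exact congrArg _ (ConcreteCategory.congr_hom
        (congrArg (fun q : F ⟶ _ => q.hom.app (op V)) hunit) t)
    rw [ConcreteCategory.isIso_iff_bijective]
    constructor
    · refine (injective_iff_map_eq_zero _).2 fun z hz => ?_
      obtain ⟨v, rfl⟩ := hw z
      obtain ⟨V, hV, t, rfl⟩ := TopCat.Presheaf.exists_germ_eq (C := AddCommGrpCat.{u}) (X := S) F.obj v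
      obtain ⟨W, hW, i₁, i₂, he⟩ := TopCat.Presheaf.germ_eq (res (p0 F) T a) x
        (show x ∈ (Opens.map a).obj V from hV) (show x ∈ (Opens.map a).obj V from hV) _ 0
        (((key V hV t).symm.trans hz).trans (map_zero _).symm)
      have e0 : gF F V (a x) hV t = 0 :=
        congrFun (congrArg Subtype.val (he.trans (map_zero ((res (p0 F) T a).map i₂.op).hom))) ⟨x, hW⟩
      exact (congrArg w.hom e0).trans (map_zero _)
    · intro z
      obtain ⟨U', hx, s, rfl⟩ := exists_gm_eq (p0 F) ⟨T, a, ⊤⟩ z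
      obtain ⟨W, V, t, hxW, ht⟩ := s.2 ⟨x, hx⟩
      obtain ⟨hV, -⟩ := ht ⟨x, hx⟩ hxW
      refine ⟨w.hom (gF F V (a x) hV t), (key V hV t).trans ?_⟩
      have hle : U' ⊓ W ≤ (Opens.map a).obj V := fun y hy => (ht ⟨y, hy.1⟩ hy.2).fst
      refine gm_eq (p0 F) ⟨T, a, ⊤⟩ _ _ (show x ∈ U' ⊓ W from ⟨hx, hxW⟩) hle inf_le_left _ _ ?_
      exact Subtype.ext (funext fun y => (ht ⟨y.1, y.2.1⟩ y.2.2).snd.symm)
  exact TopCat.Presheaf.isIso_of_stalkFunctor_map_iso _

/-- The families of germs are the inverse image. -/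
theorem nonempty_p0Sheaf_iso : Nonempty ((CohTop.pull a).obj F ≅ p0Sheaf F T a) :=
  haveI := isIso_p0Map F T a
  ⟨asIso (p0Map F T a)⟩

end Sp

end Groth.Agent.TopDesc98
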