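import Groth.Agent.TopDesc98.God.Godement
import Groth.Agent.TopDesc98.God.Pull
import Groth.Agent.TopDesc98.Acyc.Sheaf

/-!
# The Godement complex computes cohomology of the inverse images
-/

set_option autoImplicit false
set_option linter.style.haveILetI false

universe u

open CategoryTheory CategoryTheory.Limits Opposite TopologicalSpace

namespace Groth.Agent.TopDesc98

namespace Sp

variable {S : TopCat.{u}} (Q₀ : Psh S) (T : TopCat.{u}) (a : T ⟶ S)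

theorem termZ_isSheaf : ∀ q : ℤ, TopCat.Presheaf.IsSheaf (res (termZ Q₀ q) T a)
  | Int.ofNat n => god_isSheaf T a (coker Q₀ n)
  | Int.negSucc n => (TopCat.Presheaf.isSheaf_iff_isSheafUniqueGluing _).2 fun ι U sf _ => by
      have h : ∀ o, Subsingleton ((termZ Q₀ (Int.negSucc n)).obj o) := fun o =>
        AddCommGrpCat.subsingleton_of_isZero
          (((evaluation (Sp S)ᵒᵖ AddCommGrpCat.{u}).obj o).map_isZero (isZero_zero _))
      exact ⟨0, fun i => @Subsingleton.elim _ (h _) _ _, fun s _ => @Subsingleton.elim _ (h _) _ _⟩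

/-- The Godement complex as a complex of sheaves on one space. -/
noncomputable def godCx : CochainComplex (CohTop.Ab T) ℤ where
  X q := ⟨res ((cx Q₀).X q) T a, termZ_isSheaf Q₀ T a q⟩
  d i j := ⟨Functor.whiskerLeft (ofOpen T a).op ((cx Q₀).d i j)⟩
  shape i j h := CategoryTheory.Sheaf.hom_ext (by
    refine NatTrans.ext (funext fun U => ?_)
    exact congrArg (fun t : (cx Q₀).X i ⟶ (cx Q₀).X j => t.app (op ((ofOpen T a).obj U.unop)))
      ((cx Q₀).shape i j h))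
  d_comp_d' i j k _ _ := CategoryTheory.Sheaf.hom_ext (by
    refine NatTrans.ext (funext fun U => ?_)
    exact congrArg (fun t : (cx Q₀).X i ⟶ (cx Q₀).X k => t.app (op ((ofOpen T a).obj U.unop)))
      ((cx Q₀).d_comp_d i j k))

instance : (godCx Q₀ T a).IsStrictlyGE 0 := by
  rw [CochainComplex.isStrictlyGE_iff]
  intro q hq
  obtain ⟨n, rfl⟩ : ∃ n, q = Int.negSucc n := ⟨(-q - 1).toNat, by omega⟩
  refine (IsZero.iff_id_eq_zero _).2 (CategoryTheory.Sheaf.hom_ext ?_)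
  refine NatTrans.ext (funext fun U => ?_)
  exact (((evaluation (Sp S)ᵒᵖ AddCommGrpCat.{u}).obj (op ((ofOpen T a).obj U.unop))).map_isZero
    (isZero_zero _)).eq_of_src _ _

theorem isFlasque_godCx (q : ℤ) (hq : 0 ≤ q) : TopCat.Sheaf.IsFlasque ((godCx Q₀ T a).X q) := by
  obtain ⟨n, rfl⟩ : ∃ n : ℕ, q = n := ⟨q.toNat, by omega⟩
  exact isFlasque_godSheaf T a (coker Q₀ n)

theorem godCx_exactAt (n : ℕ) : (godCx Q₀ T a).ExactAt ((n : ℤ) + 1) := by
  rw [(godCx Q₀ T a).exactAt_iff' (n : ℤ) ((n : ℤ) + 1) ((n : ℤ) + 1 + 1) (by simp) (by simp)]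
  refine exact_of_near _ fun U s hs x hx => ?_
  have h1 : ((diff Q₀ (n + 1)).app (op ((ofOpen T a).obj U))).hom s = 0 :=
    (ConcreteCategory.congr_hom (congrArg (fun t : (cx Q₀).X _ ⟶ _ => t.app (op ((ofOpen T a).obj U)))
      (cx_d Q₀ (n + 1))) s).symm.trans hs
  obtain ⟨V, hV, hxV, t, ht⟩ := diff_exact Q₀ n ((ofOpen T a).obj U) s h1 x hx
  exact ⟨V, hV, hxV, t, (ConcreteCategory.congr_hom
    (congrArg (fun t : (cx Q₀).X _ ⟶ _ => t.app (op ((ofOpen T a).obj V))) (cx_d Q₀ n)) t).trans ht⟩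

theorem unit_cx_d : unit Q₀ ≫ (cx Q₀).d 0 1 = 0 :=
  (congrArg (unit Q₀ ≫ ·) (cx_d Q₀ 0)).trans (unit_diff Q₀ 0)

theorem unit_inj_near (hQ : TopCat.Presheaf.IsSheaf (res Q₀ T a)) :
    ∀ (U : Opens T) (s : Q₀.obj (op ((ofOpen T a).obj U))),
      ((unit Q₀).app (op ((ofOpen T a).obj U))).hom s = 0 → ∀ x ∈ U, ∃ (V : Opens T) (hV : V ≤ U),
        x ∈ V ∧ (Q₀.map ((ofOpen T a).map (homOfLE hV)).op).hom s = 0 := fun U s hs x hx => by
  obtain ⟨V, hV, hxV, h⟩ := unit_eq_zero Q₀ ((ofOpen T a).obj U) s hs x hx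
  exact ⟨V, hV, hxV, h⟩

/-- The augmentation of the Godement complex on one space. -/
noncomputable def godAug (hQ : TopCat.Presheaf.IsSheaf (res Q₀ T a)) :
    (⟨res Q₀ T a, hQ⟩ : CohTop.Ab T) ⟶ (godCx Q₀ T a).X 0 :=
  ⟨Functor.whiskerLeft (ofOpen T a).op (unit Q₀)⟩

theorem godAug_d (hQ : TopCat.Presheaf.IsSheaf (res Q₀ T a)) : godAug Q₀ T a hQ ≫ (godCx Q₀ T a).d 0 1 = 0 :=
  CategoryTheory.Sheaf.hom_ext (by
    refine NatTrans.ext (funext fun U => ?_)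
    exact congrArg (fun t : Q₀ ⟶ (cx Q₀).X 1 => t.app (op ((ofOpen T a).obj U.unop))) (unit_cx_d Q₀))

theorem mono_godAug (hQ : TopCat.Presheaf.IsSheaf (res Q₀ T a)) : Mono (godAug Q₀ T a hQ) :=
  mono_of_near _ fun U s hs x hx => unit_inj_near Q₀ T a hQ U s hs x hx

theorem exact_godAug (hQ : TopCat.Presheaf.IsSheaf (res Q₀ T a)) :
    (ShortComplex.mk (godAug Q₀ T a hQ) _ (godAug_d Q₀ T a hQ)).Exact := exact_of_near _ fun U s hs x hx => by
  have h1 : ((diff Q₀ 0).app (op ((ofOpen T a).obj U))).hom s = 0 :=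
    (ConcreteCategory.congr_hom (congrArg (fun t : (cx Q₀).X _ ⟶ _ => t.app (op ((ofOpen T a).obj U)))
      (cx_d Q₀ 0)) s).symm.trans hs
  obtain ⟨V, hV, hxV, t, ht⟩ := diff_exact_zero Q₀ ((ofOpen T a).obj U) s h1 x hx
  exact ⟨V, hV, hxV, t, ht⟩

theorem godCx_exactAt' (n : ℤ) (hn : 0 < n) : (godCx Q₀ T a).ExactAt n := by
  obtain ⟨m, rfl⟩ : ∃ m : ℕ, n = (m : ℤ) + 1 := ⟨(n - 1).toNat, by omega⟩
  exact godCx_exactAt Q₀ T a m

/-- The complex on the whole space computes cohomology. -/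
theorem nonempty_cxFun_homology_iso (hQ : TopCat.Presheaf.IsSheaf (res Q₀ T a)) (q : ℕ) :
    Nonempty (((cxFun Q₀).obj (op ⟨T, a, ⊤⟩)).homology (q : ℤ) ≅
      AddCommGrpCat.of (CohTop.H (⟨res Q₀ T a, hQ⟩ : CohTop.Ab T) q)) := by
  obtain ⟨e⟩ := nonempty_gamma_homology_iso _ (godCx Q₀ T a) (isFlasque_godCx Q₀ T a) _ (godAug_d Q₀ T a hQ)
    (mono_godAug Q₀ T a hQ) (exact_godAug Q₀ T a hQ) (godCx_exactAt' Q₀ T a) q
  exact ⟨HomologicalComplex.homologyMapIso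
    (HomologicalComplex.Hom.isoOfComponents (fun i => Iso.refl _)
      (fun i j _ => (Category.id_comp _).trans (Category.comp_id _).symm)) _ ≪≫ e⟩

/-- The Godement complex of the inverse images computes cohomology of inverse images. -/
theorem nonempty_p0_homology_iso (F : CohTop.Ab S) (q : ℕ) :
    Nonempty (((cxFun (p0 F)).obj (op ⟨T, a, ⊤⟩)).homology (q : ℤ) ≅
      AddCommGrpCat.of (CohTop.H ((CohTop.pull a).obj F) q)) := by
  obtain ⟨e⟩ := nonempty_cxFun_homology_iso (p0 F) T a (p0_isSheaf F T a) q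
  obtain ⟨e'⟩ := nonempty_p0Sheaf_iso F T a
  exact ⟨e ≪≫ ((Sheaf.functorH (Opens.grothendieckTopology T) q).mapIso e').symm⟩

theorem isZero_p0_homology (o : (Sp S)ᵒᵖ) (q : ℤ) (hq : q < 0) (Q₀ : Psh S) :
    IsZero (((cxFun Q₀).obj o).X q) :=
  ((evaluation (Sp S)ᵒᵖ AddCommGrpCat.{u}).obj o).map_isZero (isZero_cx_X Q₀ q hq)

end Sp

end Groth.Agent.TopDesc98
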