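import Groth.Agent.TopDesc98.God.Res

/-!
# Godement complexes and inverse images
-/

set_option autoImplicit false
set_option linter.style.haveILetI false

universe u

open CategoryTheory CategoryTheory.Limits Opposite TopologicalSpace

namespace Groth.Agent.TopDesc98

namespace Sp

variable {S T T' : TopCat.{u}} (i : T' ⟶ T) (a : T ⟶ S) (a' : T' ⟶ S) (h : i ≫ a = a')

/-- The map between preimages. -/
def pullHom (U : Opens T) : (ofOpen T' a').obj ((Opens.map i).obj U) ⟶ (ofOpen T a).obj U :=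
  homMk (o' := (ofOpen T' a').obj ((Opens.map i).obj U)) (o := (ofOpen T a).obj U) i i.hom.continuous.continuousOn
    (fun _ hx => hx) (fun x _ => ConcreteCategory.congr_hom h x)

variable (P : Psh S)

/-- The restriction map of a presheaf along a map of spaces over the base. -/
noncomputable def rMap (hT : TopCat.Presheaf.IsSheaf (res P T a)) (hT' : TopCat.Presheaf.IsSheaf (res P T' a')) :
    (⟨res P T a, hT⟩ : CohTop.Ab T) ⟶ (CohTop.push i).obj ⟨res P T' a', hT'⟩ :=
  ⟨{ app := fun U => P.map (pullHom i a a' h U.unop).op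
     naturality := fun U V k => ConcreteCategory.hom_ext _ _ fun s =>
      map_map_eq P ((ofOpen T a).map k.unop) (pullHom i a a' h V.unop) (pullHom i a a' h U.unop)
        ((ofOpen T' a').map ((Opens.map i).map k.unop)) (fun _ => rfl) s }⟩

/-- The adjunct of the restriction map. -/
noncomputable def pMap (hT : TopCat.Presheaf.IsSheaf (res P T a)) (hT' : TopCat.Presheaf.IsSheaf (res P T' a')) :
    (CohTop.pull i).obj ⟨res P T a, hT⟩ ⟶ (⟨res P T' a', hT'⟩ : CohTop.Ab T') :=
  ((TopCat.Sheaf.pullbackPushforwardAdjunction AddCommGrpCat.{u} i).homEquiv _ _).symm (rMap i a a' h P hT hT')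

theorem unit_pMap (hT : TopCat.Presheaf.IsSheaf (res P T a)) (hT' : TopCat.Presheaf.IsSheaf (res P T' a')) :
    (TopCat.Sheaf.pullbackPushforwardAdjunction AddCommGrpCat.{u} i).unit.app ⟨res P T a, hT⟩ ≫
      (CohTop.push i).map (pMap i a a' h P hT hT') = rMap i a a' h P hT hT' :=
  ((TopCat.Sheaf.pullbackPushforwardAdjunction AddCommGrpCat.{u} i).homEquiv_unit _ _ _).symm.trans
    (((TopCat.Sheaf.pullbackPushforwardAdjunction AddCommGrpCat.{u} i).homEquiv _ _).apply_symm_apply _)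

theorem pMap_natural {P P' : Psh S} (φ : P ⟶ P') (hT : TopCat.Presheaf.IsSheaf (res P T a))
    (hT' : TopCat.Presheaf.IsSheaf (res P T' a')) (kT : TopCat.Presheaf.IsSheaf (res P' T a))
    (kT' : TopCat.Presheaf.IsSheaf (res P' T' a')) :
    (CohTop.pull i).map (⟨Functor.whiskerLeft (ofOpen T a).op φ⟩ :
        (⟨res P T a, hT⟩ : CohTop.Ab T) ⟶ ⟨res P' T a, kT⟩) ≫ pMap i a a' h P' kT kT' =
      pMap i a a' h P hT hT' ≫ (⟨Functor.whiskerLeft (ofOpen T' a').op φ⟩ :
        (⟨res P T' a', hT'⟩ : CohTop.Ab T') ⟶ ⟨res P' T' a', kT'⟩) := by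
  let adj : CohTop.pull i ⊣ CohTop.push i := TopCat.Sheaf.pullbackPushforwardAdjunction AddCommGrpCat.{u} i
  refine (adj.homEquiv_naturality_left_symm _ _).symm.trans ?_
  refine Eq.trans (congrArg _ ?_) (adj.homEquiv_naturality_right_symm _ _)
  refine CategoryTheory.Sheaf.hom_ext (NatTrans.ext (funext fun U => ?_))
  exact (φ.naturality (pullHom i a a' h U.unop).op).symm

theorem isIso_pMap_p0 (F : CohTop.Ab S) :
    IsIso (pMap i a a' h (p0 F) (p0_isSheaf F T a) (p0_isSheaf F T' a')) := by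
  let G₀ : CohTop.Ab T := p0Sheaf F T a
  let adj : CohTop.pull i ⊣ CohTop.push i := TopCat.Sheaf.pullbackPushforwardAdjunction AddCommGrpCat.{u} i
  let G : CohTop.Ab T' := (CohTop.pull i).obj G₀
  let φ := pMap i a a' h (p0 F) (p0_isSheaf F T a) (p0_isSheaf F T' a')
  have hunit := unit_pMap i a a' h (p0 F) (p0_isSheaf F T a) (p0_isSheaf F T' a')
  have hstalk : ∀ x : T', IsIso ((TopCat.Presheaf.stalkFunctor AddCommGrpCat.{u} x).map φ.1) := by
    intro x
    let w := (ClosedEmb.stalkF (i x)).map (adj.unit.app G₀) ≫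
      TopCat.Presheaf.stalkPushforward AddCommGrpCat.{u} i G.obj x
    have hw : Function.Surjective w.hom := (AddCommGrpCat.epi_iff_surjective w).1
      (CTopVan.epi_stalkUnit_pushforward i G₀ x)
    have key : ∀ (W : Opens T) (hW : i x ∈ W) (s : (p0 F).obj (op ((ofOpen T a).obj W))),
        ((TopCat.Presheaf.stalkFunctor AddCommGrpCat.{u} x).map φ.1).hom
            (w.hom (gm (p0 F) ⟨T, a, ⊤⟩ W (i x) hW s)) =
          gm (p0 F) ⟨T', a', ⊤⟩ ((Opens.map i).obj W) x hW (((p0 F).map (pullHom i a a' h W).op).hom s) := by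
      intro W hW s
      have e₁ : w.hom (gm (p0 F) ⟨T, a, ⊤⟩ W (i x) hW s) =
          TopCat.Presheaf.germ (C := AddCommGrpCat.{u}) (X := T') G.obj ((Opens.map i).obj W) x hW
            (((adj.unit.app G₀).hom.app (op W)).hom s) :=
        (congrArg (fun z => (TopCat.Presheaf.stalkPushforward AddCommGrpCat.{u} i G.obj x).hom z)
          (TopCat.Presheaf.stalkFunctor_map_germ_apply W (i x) hW (adj.unit.app G₀).hom s)).trans
          (ConcreteCategory.congr_hom (TopCat.Presheaf.stalkPushforward_germ AddCommGrpCat.{u} i G.obj W x hW) _)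
      rw [e₁]
      refine (TopCat.Presheaf.stalkFunctor_map_germ_apply ((Opens.map i).obj W) x hW φ.1 _).trans ?_
      exact congrArg _ (ConcreteCategory.congr_hom
        (congrArg (fun q : G₀ ⟶ _ => q.hom.app (op W)) hunit) s)
    rw [ConcreteCategory.isIso_iff_bijective]
    constructor
    · refine (injective_iff_map_eq_zero _).2 fun z hz => ?_
      obtain ⟨v, rfl⟩ := hw z
      obtain ⟨W, hW, s, rfl⟩ := exists_gm_eq (p0 F) ⟨T, a, ⊤⟩ v
      obtain ⟨W', hW', i₁, i₂, he⟩ := TopCat.Presheaf.germ_eq (res (p0 F) T' a') x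
        (show x ∈ (Opens.map i).obj W from hW) (show x ∈ (Opens.map i).obj W from hW) _ 0
        (((key W hW s).symm.trans hz).trans (map_zero _).symm)
      have e0 : tr F (ConcreteCategory.congr_hom h x) (s.1 ⟨i x, hW⟩) = 0 :=
        congrFun (congrArg Subtype.val (he.trans (map_zero ((res (p0 F) T' a').map i₂.op).hom))) ⟨x, hW'⟩
      have e1 : s.1 ⟨i x, hW⟩ = 0 := by
        have := congrArg (tr F (ConcreteCategory.congr_hom h x).symm) e0
        rwa [tr_tr, map_zero] at this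
      obtain ⟨W₁, V, t, hxW₁, ht⟩ := s.2 ⟨i x, hW⟩
      obtain ⟨hV, et⟩ := ht ⟨i x, hW⟩ hxW₁
      obtain ⟨V', hV', j₁, j₂, e2⟩ := TopCat.Presheaf.germ_eq F.obj (a (i x)) hV hV t 0
        ((et.symm.trans e1).trans (map_zero _).symm)
      let W₂ : Opens T := W ⊓ W₁ ⊓ (Opens.map a).obj V'
      have hz2 : gm (p0 F) ⟨T, a, ⊤⟩ W (i x) hW s = 0 := by
        refine (gm_res (p0 F) ⟨T, a, ⊤⟩ (show i x ∈ W₂ from ⟨⟨hW, hxW₁⟩, hV'⟩)
          (inf_le_left.trans inf_le_left : W₂ ≤ W) s).symm.trans ?_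
        refine (congrArg _ ?_).trans (map_zero _)
        refine Subtype.ext (funext fun y => ?_)
        obtain ⟨hVy, ety⟩ := ht ⟨y.1, y.2.1.1⟩ y.2.1.2
        refine ety.trans ?_
        refine (gF_res F j₁.le y.2.2 t).symm.trans ?_
        exact (congrArg _ (e2.trans (map_zero (F.obj.map j₂.op).hom))).trans (map_zero _)
      exact (congrArg w.hom hz2).trans (map_zero _)
    · intro z
      obtain ⟨U', hx, s, rfl⟩ := exists_gm_eq (p0 F) ⟨T', a', ⊤⟩ z
      obtain ⟨W, V, t, hxW, ht⟩ := s.2 ⟨x, hx⟩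
      obtain ⟨hV, -⟩ := ht ⟨x, hx⟩ hxW
      have hix : i x ∈ (Opens.map a).obj V := by
        show a (i x) ∈ V
        rw [show a (i x) = a' x from ConcreteCategory.congr_hom h x]
        exact hV
      let s₀ : (p0 F).obj (op ((ofOpen T a).obj ((Opens.map a).obj V))) := ((p0Unit F T a).hom.app (op V)).hom t
      refine ⟨w.hom (gm (p0 F) ⟨T, a, ⊤⟩ _ (i x) hix s₀), (key _ hix s₀).trans ?_⟩
      have hle : U' ⊓ W ≤ (Opens.map i).obj ((Opens.map a).obj V) := fun y hy => by
        show a (i y) ∈ V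
        rw [show a (i y) = a' y from ConcreteCategory.congr_hom h y]
        exact (ht ⟨y, hy.1⟩ hy.2).fst
      refine gm_eq (p0 F) ⟨T', a', ⊤⟩ _ _ (show x ∈ U' ⊓ W from ⟨hx, hxW⟩) hle inf_le_left _ _ ?_
      refine Subtype.ext (funext fun y => ?_)
      exact (tr_gF F _ V _ t).trans (ht ⟨y.1, y.2.1⟩ y.2.2).snd.symm
  exact TopCat.Presheaf.isIso_of_stalkFunctor_map_iso φ

instance additive_pull : (CohTop.pull i).Additive :=
  haveI : (CohTop.pull i).IsLeftAdjoint :=
    (TopCat.Sheaf.pullbackPushforwardAdjunction AddCommGrpCat.{u} i).isLeftAdjoint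
  Functor.additive_of_preserves_binary_products _

variable (Q₀ : Psh S)

/-- The comparison of Godement complexes. -/
noncomputable def godMap :
    ((CohTop.pull i).mapHomologicalComplex (ComplexShape.up ℤ)).obj (godCx Q₀ T a) ⟶ godCx Q₀ T' a' where
  f q := pMap i a a' h ((cx Q₀).X q) (termZ_isSheaf Q₀ T a q) (termZ_isSheaf Q₀ T' a' q)
  comm' p q _ := (pMap_natural i a a' h ((cx Q₀).d p q) _ _ _ _).symm

theorem quasiIso_godMap (hT : TopCat.Presheaf.IsSheaf (res Q₀ T a)) (hT' : TopCat.Presheaf.IsSheaf (res Q₀ T' a'))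
    (hiso : IsIso (pMap i a a' h Q₀ hT hT')) : QuasiIso (godMap i a a' h Q₀) := by
  let R := CohTop.pull i
  haveI : R.IsLeftAdjoint := (TopCat.Sheaf.pullbackPushforwardAdjunction AddCommGrpCat.{u} i).isLeftAdjoint
  haveI : PreservesFiniteLimits R := SiteBase.preservesFiniteLimits_pull i
  let G' := (R.mapHomologicalComplex (ComplexShape.up ℤ)).obj (godCx Q₀ T a)
  have hd : R.map (godAug Q₀ T a hT) ≫ G'.d 0 1 = 0 :=
    (R.map_comp _ _).symm.trans ((congrArg R.map (godAug_d Q₀ T a hT)).trans (R.map_zero _ _))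
  have hm : Mono (R.map (godAug Q₀ T a hT)) := by
    haveI := mono_godAug Q₀ T a hT
    exact R.map_mono _
  have h₁ := quasiIso_fromSingle _ G' (R.map (godAug Q₀ T a hT)) hd hm ((exact_godAug Q₀ T a hT).map R)
    (fun n hn => (godCx_exactAt' Q₀ T a n hn).map R)
  have h₂ := quasiIso_fromSingle _ (godCx Q₀ T' a') (godAug Q₀ T' a' hT') (godAug_d Q₀ T' a' hT')
    (mono_godAug Q₀ T' a' hT') (exact_godAug Q₀ T' a' hT') (godCx_exactAt' Q₀ T' a')
  let ι₁ : (CochainComplex.singleFunctor (CohTop.Ab T') 0).obj (R.obj ⟨res Q₀ T a, hT⟩) ⟶ G' :=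
    HomologicalComplex.mkHomFromSingle (R.map (godAug Q₀ T a hT)) (fun k hk => by
      obtain rfl : 0 + 1 = k := hk
      exact hd)
  let ι₂ : (CochainComplex.singleFunctor (CohTop.Ab T') 0).obj ⟨res Q₀ T' a', hT'⟩ ⟶ godCx Q₀ T' a' :=
    HomologicalComplex.mkHomFromSingle (godAug Q₀ T' a' hT') (fun k hk => by
      obtain rfl : 0 + 1 = k := hk
      exact godAug_d Q₀ T' a' hT')
  haveI : QuasiIso ι₁ := h₁
  haveI : QuasiIso ι₂ := h₂
  haveI : IsIso ((CochainComplex.singleFunctor (CohTop.Ab T') 0).map (pMap i a a' h Q₀ hT hT')) := inferInstance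
  have sq : ι₁ ≫ godMap i a a' h Q₀ =
      (CochainComplex.singleFunctor (CohTop.Ab T') 0).map (pMap i a a' h Q₀ hT hT') ≫ ι₂ := by
    refine HomologicalComplex.from_single_hom_ext ?_
    have e := pMap_natural i a a' h (unit Q₀) hT hT' (termZ_isSheaf Q₀ T a 0) (termZ_isSheaf Q₀ T' a' 0)
    show ι₁.f 0 ≫ _ = ((HomologicalComplex.single (CohTop.Ab T') (ComplexShape.up ℤ) 0).map _).f 0 ≫ ι₂.f 0
    rw [show ι₁.f 0 = _ from HomologicalComplex.mkHomFromSingle_f _ _,
      show ι₂.f 0 = _ from HomologicalComplex.mkHomFromSingle_f _ _,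
      HomologicalComplex.single_map_f_self]
    refine (Category.assoc _ _ _).trans ?_
    refine Eq.trans (congrArg _ e) ?_
    simp only [Category.assoc, Iso.inv_hom_id_assoc]
    rfl
  haveI : QuasiIso (ι₁ ≫ godMap i a a' h Q₀) := by
    rw [sq]
    infer_instance
  exact quasiIso_of_comp_left ι₁ _

end Sp

end Groth.Agent.TopDesc98
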