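import Groth.Prelude.Def_CohTop
import Mathlib.Algebra.Category.Grp.FilteredColimits
import Mathlib.CategoryTheory.Abelian.FunctorCategory

/-!
# Opens of spaces over a base, with stalks functorial in all maps over the base
-/

set_option autoImplicit false

universe u

open CategoryTheory CategoryTheory.Limits Opposite TopologicalSpace

namespace Groth.Agent.TopDesc98

/-- An open subset of a space over `S`. -/
structure Sp (S : TopCat.{u}) : Type (u + 1) where
  /-- The ambient space. -/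
  T : TopCat.{u}
  /-- The structure map. -/
  a : T ⟶ S
  /-- The open subset. -/
  U : Opens T

namespace Sp

variable {S : TopCat.{u}}

/-- Continuous maps over `S` between the open subsets. -/
@[ext]
structure Hom (o' o : Sp S) : Type u where
  /-- The map. -/
  g : C(o'.U, o.U)
  /-- It commutes with the structure maps. -/
  comm : ∀ x, o.a (g x).1 = o'.a x.1

instance : Category.{u} (Sp S) where
  Hom := Hom
  id o := ⟨ContinuousMap.id _, fun _ => rfl⟩
  comp f f' := ⟨f'.g.comp f.g, fun x => (f'.comm _).trans (f.comm x)⟩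

theorem hom_ext {o' o : Sp S} (f f' : o' ⟶ o) (h : ∀ x, (f.g x).1 = (f'.g x).1) : f = f' :=
  Hom.ext (ContinuousMap.ext fun x => Subtype.ext (h x))

/-- A map over `S` from a formula. -/
def homMk {o' o : Sp S} (g : o'.T → o.T) (hg : ContinuousOn g o'.U) (hU : ∀ x ∈ o'.U, g x ∈ o.U)
    (hc : ∀ x ∈ o'.U, o.a (g x) = o'.a x) : o' ⟶ o :=
  ⟨⟨fun x => ⟨g x.1, hU x.1 x.2⟩, hg.domRestrict.subtype_mk _⟩, fun x => hc x.1 x.2⟩

/-- The opens of a space over `S`. -/
def ofOpen (T : TopCat.{u}) (a : T ⟶ S) : Opens T ⥤ Sp S where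
  obj U := ⟨T, a, U⟩
  map h := ⟨⟨fun x => ⟨x.1, h.le x.2⟩, continuous_subtype_val.subtype_mk _⟩, fun _ => rfl⟩
  map_id _ := rfl
  map_comp _ _ := rfl

/-- Presheaves on opens of spaces over `S`. -/
abbrev Psh (S : TopCat.{u}) : Type (u + 1) := (Sp S)ᵒᵖ ⥤ AddCommGrpCat.{u}

/-- The restriction of a presheaf to the opens of one space. -/
noncomputable abbrev res (P : Psh S) (T : TopCat.{u}) (a : T ⟶ S) : TopCat.Presheaf AddCommGrpCat.{u} T :=
  (ofOpen T a).op ⋙ P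

/-- The stalk at a point of the ambient space. -/
noncomputable abbrev st (P : Psh S) (o : Sp S) (x : o.T) : AddCommGrpCat.{u} :=
  TopCat.Presheaf.stalk (res P o.T o.a) x

/-- The germ of a section. -/
noncomputable abbrev gm (P : Psh S) (o : Sp S) (W : Opens o.T) (x : o.T) (hx : x ∈ W)
    (s : P.obj (op ⟨o.T, o.a, W⟩)) : st P o x :=
  (TopCat.Presheaf.germ (res P o.T o.a) W x hx).hom s

theorem map_map (P : Psh S) {a b c : Sp S} (h : b ⟶ a) (h' : c ⟶ b) (k : c ⟶ a)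
    (e : ∀ x, (h.g (h'.g x)).1 = (k.g x).1) (s : P.obj (op a)) :
    (P.map h'.op).hom ((P.map h.op).hom s) = (P.map k.op).hom s := by
  rw [← show h' ≫ h = k from hom_ext _ _ e]
  exact (ConcreteCategory.congr_hom (P.map_comp h.op h'.op) s).symm

theorem map_map_eq (P : Psh S) {a b b' c : Sp S} (h : b ⟶ a) (h' : c ⟶ b) (k : b' ⟶ a) (k' : c ⟶ b')
    (e : ∀ x, (h.g (h'.g x)).1 = (k.g (k'.g x)).1) (s : P.obj (op a)) :
    (P.map h'.op).hom ((P.map h.op).hom s) = (P.map k'.op).hom ((P.map k.op).hom s) :=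
  (map_map P h h' (k' ≫ k) e s).trans (map_map P k k' (k' ≫ k) (fun _ => rfl) s).symm

theorem gm_eq (P : Psh S) (o : Sp S) {W W' V : Opens o.T} {x : o.T} (hx : x ∈ W) (hx' : x ∈ W')
    (hV : x ∈ V) (i : V ≤ W) (i' : V ≤ W') (s : P.obj (op ⟨o.T, o.a, W⟩)) (s' : P.obj (op ⟨o.T, o.a, W'⟩))
    (h : (P.map ((ofOpen o.T o.a).map (homOfLE i)).op).hom s =
      (P.map ((ofOpen o.T o.a).map (homOfLE i')).op).hom s') :
    gm P o W x hx s = gm P o W' x hx' s' :=
  TopCat.Presheaf.germ_ext (F := res P o.T o.a) V hV (homOfLE i) (homOfLE i') h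

theorem gm_res (P : Psh S) (o : Sp S) {W V : Opens o.T} {x : o.T} (hV : x ∈ V) (i : V ≤ W)
    (s : P.obj (op ⟨o.T, o.a, W⟩)) :
    gm P o V x hV ((P.map ((ofOpen o.T o.a).map (homOfLE i)).op).hom s) = gm P o W x (i hV) s :=
  TopCat.Presheaf.germ_res_apply (res P o.T o.a) (homOfLE i) x hV s

theorem exists_gm_eq (P : Psh S) (o : Sp S) {x : o.T} (z : st P o x) :
    ∃ (W : Opens o.T) (hx : x ∈ W) (s : P.obj (op ⟨o.T, o.a, W⟩)), gm P o W x hx s = z :=
  TopCat.Presheaf.exists_germ_eq (res P o.T o.a) z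

variable {o' o : Sp S}

/-- The preimage of an open along a map defined on an open. -/
def pre (f : o' ⟶ o) (W : Opens o.T) : Opens o'.T :=
  ⟨{x | ∃ h : x ∈ o'.U, (f.g ⟨x, h⟩).1 ∈ W}, by
    have h : IsOpen ((fun x : o'.U => (f.g x).1) ⁻¹' W) := W.2.preimage (continuous_subtype_val.comp f.g.continuous)
    convert o'.U.2.isOpenMap_subtype_val _ h using 1
    ext x
    exact ⟨fun ⟨h, hW⟩ => ⟨⟨x, h⟩, hW, rfl⟩, fun ⟨y, hy, hyx⟩ => hyx ▸ ⟨y.2, hy⟩⟩⟩

/-- The restriction of a map to a preimage. -/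
def preHom (f : o' ⟶ o) (W : Opens o.T) : (⟨o'.T, o'.a, pre f W⟩ : Sp S) ⟶ ⟨o.T, o.a, W⟩ :=
  ⟨⟨fun x => ⟨(f.g ⟨x.1, x.2.fst⟩).1, x.2.snd⟩,
    ((continuous_subtype_val.comp f.g.continuous).comp (continuous_subtype_val.subtype_mk _)).subtype_mk _⟩,
    fun x => f.comm ⟨x.1, x.2.fst⟩⟩

variable (P : Psh S)

/-- The map on stalks induced by a map over `S`. -/
noncomputable def stMap (f : o' ⟶ o) (x : o'.U) : st P o (f.g x).1 ⟶ st P o' x.1 :=
  colimit.desc ((OpenNhds.inclusion (f.g x).1).op ⋙ res P o.T o.a)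
    { pt := st P o' x.1
      ι :=
        { app := fun W => P.map (preHom f W.unop.1).op ≫
            TopCat.Presheaf.germ (res P o'.T o'.a) (pre f W.unop.1) x.1 ⟨x.2, W.unop.2⟩
          naturality := fun W V k => by
            have hk : V.unop.1 ≤ W.unop.1 := ((OpenNhds.inclusion (f.g x).1).map k.unop).le
            have hle : pre f V.unop.1 ≤ pre f W.unop.1 := fun y hy => ⟨hy.fst, hk hy.snd⟩
            refine ConcreteCategory.hom_ext _ _ fun s => ?_
            refine Eq.trans ?_ (gm_res P o' (show x.1 ∈ pre f V.unop.1 from ⟨x.2, V.unop.2⟩) hle _)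
            refine congrArg (gm P o' (pre f V.unop.1) x.1 ⟨x.2, V.unop.2⟩) ?_
            exact map_map_eq P ((ofOpen o.T o.a).map (homOfLE hk)) (preHom f V.unop.1) (preHom f W.unop.1)
              ((ofOpen o'.T o'.a).map (homOfLE hle)) (fun _ => rfl) s } }

theorem stMap_gm (f : o' ⟶ o) (x : o'.U) (W : Opens o.T) (hW : (f.g x).1 ∈ W)
    (s : P.obj (op ⟨o.T, o.a, W⟩)) :
    (stMap P f x).hom (gm P o W (f.g x).1 hW s) =
      gm P o' (pre f W) x.1 ⟨x.2, hW⟩ ((P.map (preHom f W).op).hom s) :=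
  ConcreteCategory.congr_hom
    (colimit.ι_desc (F := (OpenNhds.inclusion (f.g x).1).op ⋙ res P o.T o.a) _ (op ⟨W, hW⟩)) s

theorem stMap_id (x : o.U) (z : st P o x.1) : (stMap P (𝟙 o) x).hom z = z := by
  obtain ⟨W, hW, s, rfl⟩ := exists_gm_eq P o z
  refine (stMap_gm P (𝟙 o) x W hW s).trans ?_
  have hle : W ⊓ o.U ≤ pre (𝟙 o) W := fun y hy => ⟨hy.2, hy.1⟩
  refine gm_eq P o _ hW (show x.1 ∈ W ⊓ o.U from ⟨hW, x.2⟩) hle inf_le_left _ _ ?_
  exact map_map P _ _ _ (fun _ => rfl) s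

theorem stMap_comp {o'' : Sp S} (f' : o'' ⟶ o') (f : o' ⟶ o) (x : o''.U) (z : st P o (f.g (f'.g x)).1) :
    (stMap P (f' ≫ f) x).hom z = (stMap P f' x).hom ((stMap P f (f'.g x)).hom z) := by
  obtain ⟨W, hW, s, rfl⟩ := exists_gm_eq P o z
  have h1 : (f.g (f'.g x)).1 ∈ W := hW
  refine (stMap_gm P (f' ≫ f) x W h1 s).trans ?_
  refine Eq.trans ?_ (congrArg (stMap P f' x).hom (stMap_gm P f (f'.g x) W h1 s)).symm
  refine Eq.trans ?_ (stMap_gm P f' x (pre f W) ⟨(f'.g x).2, h1⟩ _).symm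
  have hle : pre (f' ≫ f) W ≤ pre f' (pre f W) := fun y hy => ⟨hy.fst, (f'.g ⟨y, hy.fst⟩).2, hy.snd⟩
  refine gm_eq P o'' _ _ (show x.1 ∈ pre (f' ≫ f) W from ⟨x.2, h1⟩) le_rfl hle _ _ ?_
  refine Eq.trans ?_ (congrArg _ (map_map P (preHom f W) (preHom f' (pre f W))
    (preHom f' (pre f W) ≫ preHom f W) (fun _ => rfl) s)).symm
  exact (map_map P _ _ (preHom (f' ≫ f) W) (fun _ => rfl) s).trans
    (map_map P (preHom f' (pre f W) ≫ preHom f W) ((ofOpen o''.T o''.a).map (homOfLE hle))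
      (preHom (f' ≫ f) W) (fun _ => rfl) s).symm

theorem stMap_natural {P P' : Psh S} (φ : P ⟶ P') (f : o' ⟶ o) (x : o'.U) :
    stMap P f x ≫ (TopCat.Presheaf.stalkFunctor AddCommGrpCat.{u} x.1).map (Functor.whiskerLeft (ofOpen o'.T o'.a).op φ) =
      (TopCat.Presheaf.stalkFunctor AddCommGrpCat.{u} (f.g x).1).map (Functor.whiskerLeft (ofOpen o.T o.a).op φ) ≫
        stMap P' f x := by
  refine ConcreteCategory.hom_ext _ _ fun z => ?_
  obtain ⟨W, hW, s, rfl⟩ := exists_gm_eq P o z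
  refine (congrArg ((TopCat.Presheaf.stalkFunctor AddCommGrpCat.{u} x.1).map _).hom (stMap_gm P f x W hW s)).trans ?_
  refine (TopCat.Presheaf.stalkFunctor_map_germ_apply (pre f W) x.1 _ _ _).trans ?_
  refine Eq.trans ?_ (congrArg (stMap P' f x).hom
    (TopCat.Presheaf.stalkFunctor_map_germ_apply W (f.g x).1 hW (Functor.whiskerLeft (ofOpen o.T o.a).op φ) s)).symm
  refine Eq.trans ?_ (stMap_gm P' f x W hW _).symm
  exact congrArg _ (ConcreteCategory.congr_hom (φ.naturality (preHom f W).op) s)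

end Sp

end Groth.Agent.TopDesc98
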